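import Cfsg.Agent.Lib.Helper12.Asch.K2b
import Cfsg.Agent.Lib.Helper21.OAsch.Defs

set_option autoImplicit false

/-! # Piece O14 of the orthogonal campaign: the tensor frame of a family of commuting subgroups,
with the enveloping algebras identified -/

namespace Cfsg.Agent.Lib.Helper96.OAsch

open Cfsg Cfsg.Geo Matrix Cfsg.Agent.Lib.Helper13.Asch Cfsg.Agent.Lib.Helper21.OAsch
open Cfsg.Agent.Lib.Helper12.Asch
open scoped Kronecker MatrixGroups

variable {ι : Type} [Fintype ι] [DecidableEq ι] {F : Type*} [Field F] {Q : (ι → F) → F}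
  {G : Matrix ι ι F}

theorem tensor_frame' [Fintype F] [Nonempty ι] {H : Subgroup (GL ι F)}
    {t : ℕ} (ht : 2 ≤ t) (P : Fin t → Subgroup (GL ι F))
    (henv : env (⨆ i, P i) = ⊤)
    (hcomm : ∀ i j, i ≠ j → ∀ x ∈ P i, ∀ y ∈ P j, x * y = y * x)
    (hperm : ∀ h ∈ H, ∃ σ : Equiv.Perm (Fin t), ∀ i,
      (P i).map (MulAut.conj h).toMonoidHom = P (σ i))
    (htrans : ∀ i j, ∃ h ∈ H, (P i).map (MulAut.conj h).toMonoidHom = P j) :
    ∃ (m : ℕ) (e : ι ≃ (Fin t → Fin m)) (Pm : GL ι F),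
      H ≤ tensorWreathSubgroup m t e Pm ∧
      ∀ i, ∀ x, x ∈ env (P i) ↔ ∃ X : Matrix (Fin m) (Fin m) F, x = embT e Pm i X := by
  classical
  set P0 : Subgroup (GL ι F) := ⨆ i, P i with hP0
  have i0 : Fin t := ⟨0, by omega⟩
  have hPP0 : ∀ i, P i ≤ P0 := fun i => le_iSup P i
  have hnrmi : ∀ i, Nrm P0 (P i) := by
    intro i x hx
    induction hx using Subgroup.iSup_induction' with
    | hp j x hx =>
      intro y hy
      by_cases hij : j = i
      · subst hij
        exact (P j).mul_mem ((P j).mul_mem hx hy) ((P j).inv_mem hx)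
      · rw [hcomm j i hij x hx y hy, mul_inv_cancel_right]
        exact hy
    | h1 => intro y hy; simpa using hy
    | hmul x y _ _ hx hy =>
      intro z hz
      have e : x * y * z * (x * y)⁻¹ = x * (y * z * y⁻¹) * x⁻¹ := by group
      rw [e]
      exact hx _ (hy z hz)
  have hAcomm : ∀ i j, i ≠ j → ∀ a ∈ env (P i), ∀ b ∈ env (P j), a * b = b * a :=
    fun i j hij => env_commute (hcomm i j hij)
  have hcenter : ∀ i, ∀ z ∈ env (P i), (∀ a ∈ env (P i), z * a = a * z) →
      ∃ c : F, z = c • (1 : Matrix ι ι F) := by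
    intro i z hz hza
    apply Cfsg.Agent.Lib.Helper96.Asch.scalar_of_commute henv
    intro x hx
    induction hx using Subgroup.iSup_induction' with
    | hp j x hx =>
      by_cases hij : i = j
      · subst hij
        exact hza _ (mem_env hx)
      · exact hAcomm i j hij z hz _ (mem_env hx)
    | h1 => simp
    | hmul x y _ _ hx hy =>
      rw [Units.val_mul, ← mul_assoc, hx, mul_assoc, hy, mul_assoc]
  have hSS : ∀ i, SS (env (P i)) := fun i =>
    Cfsg.Agent.Lib.Helper73.Asch.ss_of_irr P0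
      (Cfsg.Agent.Lib.Helper96.Asch.absIrr_of_env_top henv).1 _
      (Cfsg.Agent.Lib.Helper58.Asch.nrm_env (hnrmi i))
  obtain ⟨m, ⟨ψ⟩⟩ := Cfsg.Agent.Lib.Helper79.Asch.exists_algEquiv_matrix (env (P i0)) (hSS i0)
    (hcenter i0)
  choose g hgH hg using htrans i0
  let φ : Fin t → (Matrix (Fin m) (Fin m) F →ₐ[F] Matrix ι ι F) := fun i =>
    (cjA (g i)).comp ((env (P i0)).val.comp ψ.toAlgHom)
  have hrange : ∀ i, (φ i).range = env (P i) := by
    intro i
    show ((cjA (g i)).comp ((env (P i0)).val.comp ψ.toAlgHom)).range = _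
    rw [AlgHom.range_comp, AlgHom.range_comp, ← hg i, env_conj]
    congr 1
    have : (ψ.toAlgHom).range = ⊤ := by
      rw [AlgHom.range_eq_top]
      exact ψ.surjective
    rw [this, Algebra.map_top, Subalgebra.range_val]
  have hφmem : ∀ i X, φ i X ∈ env (P i) := fun i X => by
    rw [← hrange i]; exact ⟨X, rfl⟩
  have hgen : (⨆ i, (φ i).range) = ⊤ := by
    rw [eq_top_iff, ← henv]
    apply Algebra.adjoin_le
    rintro _ ⟨x, hx, rfl⟩
    show (x : Matrix ι ι F) ∈ (⨆ i, (φ i).range)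
    induction hx using Subgroup.iSup_induction' with
    | hp j x hx =>
      have h1 : (φ j).range ≤ ⨆ i, (φ i).range := le_iSup (fun i => (φ i).range) j
      apply h1
      rw [hrange j]
      exact mem_env hx
    | h1 => exact Subalgebra.one_mem _
    | hmul x y _ _ hx hy =>
      rw [Units.val_mul]
      exact Subalgebra.mul_mem _ hx hy
  obtain ⟨e, Pm, hstd⟩ := Cfsg.Agent.Lib.Helper21.Asch.tensor_std φ
    (fun i j hij X Y => hAcomm i j hij _ (hφmem i X) _ (hφmem j Y)) hgen
  refine ⟨m, e, Pm, ?_, ?_⟩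
  · intro h hh
    obtain ⟨σ, hσ⟩ := hperm h hh
    apply Cfsg.Agent.Lib.Helper21.Asch.mem_tensorWreath (by omega) e Pm h σ
    intro i X
    have h1 : cjA h (φ i X) ∈ env (P (σ i)) := by
      rw [← hσ i, env_conj]
      exact ⟨_, hφmem i X, rfl⟩
    rw [← hrange (σ i)] at h1
    obtain ⟨Y, hY⟩ := h1
    refine ⟨Y, ?_⟩
    rw [← hstd, ← hstd]
    exact hY.symm
  · intro i x
    constructor
    · intro h1
      rw [← hrange i] at h1
      obtain ⟨X, hX⟩ := h1
      exact ⟨X, by rw [← hstd]; exact hX.symm⟩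
    · rintro ⟨X, rfl⟩
      rw [← hstd]
      exact hφmem i X

end Cfsg.Agent.Lib.Helper96.OAsch
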